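import Cfsg.Agent.H306.Kon.Wr

/-!
# The centralizer in `A_{4n+r}` of an involution with `r` fixed points, `r = 2, 3` (helper306)
-/

set_option autoImplicit false

namespace Cfsg.Agent.H306.Kon

open Equiv Equiv.Perm Subgroup

section

variable {Ω : Type*} [Fintype Ω] [DecidableEq Ω]

theorem cycleType_of_order_two {σ : Perm Ω} (h : orderOf σ = 2) {k : ℕ} (hk : σ.support.card = 2 * k) :
    σ.cycleType = Multiset.replicate k 2 := by
  obtain ⟨m, hm⟩ := cycleType_prime_order (σ := σ) (by rw [h]; exact Nat.prime_two)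
  rw [h] at hm
  have h1 := sum_cycleType σ
  rw [hm, Multiset.sum_replicate, hk] at h1
  have h2 : m + 1 = k := by simp at h1; omega
  rw [hm, h2]

/-- two involutions with the same number of moved points are conjugate by a bijection -/
theorem exists_equiv_conj {Ω' : Type*} [Fintype Ω'] [DecidableEq Ω'] (e : Ω ≃ Ω') {σ : Perm Ω} {τ : Perm Ω'} {k : ℕ}
    (hσ : orderOf σ = 2) (hτ : orderOf τ = 2) (h1 : σ.support.card = 2 * k) (h2 : τ.support.card = 2 * k) :
    ∃ f : Ω ≃ Ω', ∀ x, f (σ x) = τ (f x) := by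
  set τ' : Perm Ω := e.symm.permCongr τ with hτ'
  have ho : orderOf τ' = 2 := by
    rw [hτ', ← hτ]
    exact (e.symm.permCongrHom : Perm Ω' ≃* Perm Ω).orderOf_eq τ
  have hs : τ'.support.card = 2 * k := by
    rw [← h2]
    refine (Finset.card_bij (fun a _ => e a) ?_ ?_ ?_)
    · intro a ha
      rw [mem_support] at ha ⊢
      intro h3
      apply ha
      rw [hτ', Equiv.permCongr_apply]
      simp [h3]
    · intro a _ b _ hab
      exact e.injective hab
    · intro b hb
      refine ⟨e.symm b, ?_, by simp⟩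
      rw [mem_support] at hb ⊢
      intro h3
      apply hb
      rw [hτ', Equiv.permCongr_apply] at h3
      simpa using h3
  have hc : IsConj σ τ' := by
    rw [isConj_iff_cycleType_eq, cycleType_of_order_two hσ h1, cycleType_of_order_two ho hs]
  obtain ⟨g, hg⟩ := isConj_iff.1 hc
  refine ⟨g.trans e, fun x => ?_⟩
  have h3 : g (σ x) = τ' (g x) := by rw [← hg]; simp
  rw [Equiv.trans_apply, h3, hτ', Equiv.permCongr_apply]
  simp

end

section

variable (n r : ℕ)

/-- the model -/
abbrev X := (Fin (2 * n) × ZMod 2) ⊕ Fin r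

/-- the product of `Wr` and `Sym(r)` acting on the model -/
def Ph : Wr (Fin (2 * n)) × Perm (Fin r) →* Perm (X n r) :=
  (sumCongrHom (Fin (2 * n) × ZMod 2) (Fin r)).comp (MonoidHom.prodMap Wr.act (MonoidHom.id _))

variable {n r}

@[simp] theorem Ph_inl (x : Wr (Fin (2 * n)) × Perm (Fin r)) (a : Fin (2 * n) × ZMod 2) :
    Ph n r x (Sum.inl a) = Sum.inl (Wr.act x.1 a) := rfl

@[simp] theorem Ph_inr (x : Wr (Fin (2 * n)) × Perm (Fin r)) (a : Fin r) :
    Ph n r x (Sum.inr a) = Sum.inr (x.2 a) := rfl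

theorem Ph_injective : Function.Injective (Ph n r) := by
  rw [injective_iff_map_eq_one]
  rintro ⟨x, τ⟩ h
  have h1 : x = 1 := by
    apply Wr.act_injective
    rw [map_one]
    apply Equiv.ext
    intro a
    have := DFunLike.congr_fun h (Sum.inl a)
    rw [Ph_inl, Perm.one_apply] at this
    exact Sum.inl_injective this
  have h2 : τ = 1 := by
    apply Equiv.ext
    intro a
    have := DFunLike.congr_fun h (Sum.inr a)
    rw [Ph_inr, Perm.one_apply] at this
    exact Sum.inr_injective this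
  rw [h1, h2]; rfl

/-- the involution of the model -/
def al (n r : ℕ) : Perm (X n r) := Ph n r (Wr.z _, 1)

theorem al_ne_inl (a : Fin (2 * n) × ZMod 2) : al n r (Sum.inl a) ≠ Sum.inl a := by
  intro h
  have h1 := Sum.inl_injective h
  have h2 := congrArg Prod.snd h1
  have h3 : a.2 + 1 = a.2 := h2
  generalize a.2 = b at h3
  revert b; decide

theorem al_inr (a : Fin r) : al n r (Sum.inr a) = Sum.inr a := rfl

theorem al_sq : al n r * al n r = 1 := by
  rw [al, ← map_mul]
  have : ((Wr.z (Fin (2 * n)), (1 : Perm (Fin r))) * (Wr.z (Fin (2 * n)), (1 : Perm (Fin r)))) = 1 := by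
    rw [Prod.mk_mul_mk, Wr.z_mul_self, one_mul]; rfl
  rw [this, map_one]

theorem orderOf_al (hn : 1 ≤ n) : orderOf (al n r) = 2 := by
  rw [orderOf_eq_prime_iff]
  refine ⟨by rw [pow_two, al_sq], fun h => ?_⟩
  apply al_ne_inl (n := n) (r := r) (⟨0, by omega⟩, 0)
  rw [h]; rfl

theorem card_support_al : (al n r).support.card = 2 * (2 * n) := by
  have h1 : (al n r).support = (Finset.univ : Finset (Fin (2 * n) × ZMod 2)).map ⟨Sum.inl, Sum.inl_injective⟩ := by
    ext a
    rw [mem_support, Finset.mem_map]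
    constructor
    · intro h
      rcases a with a | a
      · exact ⟨a, Finset.mem_univ _, rfl⟩
      · exact absurd (al_inr a) h
    · rintro ⟨a, -, rfl⟩
      exact al_ne_inl a
  rw [h1, Finset.card_map, Finset.card_univ, Fintype.card_prod, Fintype.card_fin, ZMod.card]
  ring

theorem mem_range_Ph {g : Perm (X n r)} (hg : g * al n r = al n r * g) : g ∈ (Ph n r).range := by
  have h1 : ∀ x, g (al n r x) = al n r (g x) := fun x => DFunLike.congr_fun hg x
  have h2 : Set.MapsTo g (Set.range Sum.inl) (Set.range Sum.inl) := by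
    rintro _ ⟨a, rfl⟩
    rcases hb : g (Sum.inl a) with b | b
    · exact ⟨b, rfl⟩
    · exfalso
      have h3 := h1 (Sum.inl a)
      rw [hb, al_inr, ← hb] at h3
      exact al_ne_inl a (g.injective h3)
  obtain ⟨⟨g1, g2⟩, hgg⟩ := mem_sumCongrHom_range_of_perm_mapsTo_inl h2
  have h3 : g1 * Wr.act (Wr.z _) = Wr.act (Wr.z _) * g1 := by
    apply Equiv.ext
    intro a
    have h4 := h1 (Sum.inl a)
    rw [← hgg] at h4
    exact Sum.inl_injective h4
  obtain ⟨x, hx⟩ := Wr.exists_act h3
  refine ⟨(x, g2), ?_⟩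
  rw [← hgg, ← hx]
  rfl

theorem sign_Ph (x : Wr (Fin (2 * n)) × Perm (Fin r)) :
    sign (Ph n r x) = sign (Wr.act x.1) * sign x.2 := sign_sumCongr _ _

end

/-- **The centralizer of `α` is `(2 wr Sym(2n) × Sym(r)) ∩ A`.** -/
theorem exists_rho {n r : ℕ} (hn : 1 ≤ n) (hr : r = 2 ∨ r = 3)
    (α : alternatingGroup (Fin (4 * n + r))) (hα : orderOf α = 2)
    (hα4 : (α : Perm (Fin (4 * n + r))).support.card = 4 * n) :
    ∃ ρ : centralizer ({α} : Set (alternatingGroup (Fin (4 * n + r)))) →* Wr (Fin (2 * n)),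
      Function.Surjective ρ ∧ (Nat.card ρ.ker = 1 ∨ Nat.card ρ.ker = 3) ∧ (r = 2 → Nat.card ρ.ker = 1) ∧
      ∀ h, ρ ⟨α, h⟩ = Wr.z _ := by
  have e : Fin (4 * n + r) ≃ X n r := Fintype.equivOfCardEq (by
    rw [Fintype.card_sum, Fintype.card_prod, Fintype.card_fin, Fintype.card_fin, Fintype.card_fin, ZMod.card]; ring)
  obtain ⟨f, hf⟩ := exists_equiv_conj e (σ := (α : Perm (Fin (4 * n + r)))) (τ := al n r) (k := 2 * n)
    (by rw [← hα]; exact Subgroup.orderOf_coe α) (orderOf_al hn) (by rw [hα4]; ring) card_support_al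
  let F : Perm (Fin (4 * n + r)) ≃* Perm (X n r) := f.permCongrHom
  have hF : ∀ (g : Perm (Fin (4 * n + r))) x, F g (f x) = f (g x) := by
    intro g x
    change f (g (f.symm (f x))) = _
    rw [f.symm_apply_apply]
  have hFα : F α = al n r := by
    apply Equiv.ext
    intro y
    obtain ⟨x, rfl⟩ := f.surjective y
    rw [hF, hf]
  have hFs : ∀ g, sign (F g) = sign g := fun g => sign_permCongr f g
  have hmem : ∀ c : centralizer ({α} : Set (alternatingGroup (Fin (4 * n + r)))),
      F ((c : alternatingGroup (Fin (4 * n + r))) : Perm (Fin (4 * n + r))) ∈ (Ph n r).range := by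
    intro c
    apply mem_range_Ph
    have h1 := mem_centralizer_singleton_iff.1 c.2
    have h2 : ((c : alternatingGroup (Fin (4 * n + r))) : Perm (Fin (4 * n + r))) * α = α * c :=
      congrArg Subtype.val h1
    rw [← hFα, ← map_mul, ← map_mul, h2]
  let G1 : centralizer ({α} : Set (alternatingGroup (Fin (4 * n + r)))) →* (Ph n r).range :=
    (F.toMonoidHom.comp ((alternatingGroup (Fin (4 * n + r))).subtype.comp
      (centralizer ({α} : Set (alternatingGroup (Fin (4 * n + r))))).subtype)).codRestrict (Ph n r).range hmem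
  let ψ : (Ph n r).range ≃* Wr (Fin (2 * n)) × Perm (Fin r) := (MonoidHom.ofInjective Ph_injective).symm
  let G2 : centralizer ({α} : Set (alternatingGroup (Fin (4 * n + r)))) →* Wr (Fin (2 * n)) × Perm (Fin r) :=
    ψ.toMonoidHom.comp G1
  have hG2 : ∀ c, Ph n r (G2 c) = F ((c : alternatingGroup (Fin (4 * n + r))) : Perm (Fin (4 * n + r))) := by
    intro c
    have := (MonoidHom.ofInjective (Ph_injective (n := n) (r := r))).apply_symm_apply (G1 c)
    exact congrArg Subtype.val this
  have hG2i : Function.Injective G2 := by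
    intro c d h
    have h1 := hG2 c
    rw [h, hG2] at h1
    exact (Subtype.ext (Subtype.ext (F.injective h1))).symm
  have hev : ∀ c, sign (Wr.act (G2 c).1) * sign (G2 c).2 = 1 := by
    intro c
    rw [← sign_Ph, hG2, hFs]
    exact mem_alternatingGroup.1 (c : alternatingGroup (Fin (4 * n + r))).2
  have hex : ∀ x : Wr (Fin (2 * n)) × Perm (Fin r), sign (Wr.act x.1) * sign x.2 = 1 → ∃ c, G2 c = x := by
    intro x hx
    have h1 : F.symm (Ph n r x) ∈ alternatingGroup (Fin (4 * n + r)) := by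
      rw [mem_alternatingGroup, ← hFs, F.apply_symm_apply, sign_Ph, hx]
    have h2 : (⟨_, h1⟩ : alternatingGroup (Fin (4 * n + r))) ∈
        centralizer ({α} : Set (alternatingGroup (Fin (4 * n + r)))) := by
      rw [mem_centralizer_singleton_iff]
      apply Subtype.ext
      apply F.injective
      change F (F.symm (Ph n r x) * α) = F (α * F.symm (Ph n r x))
      rw [map_mul, map_mul, F.apply_symm_apply, hFα, al, ← map_mul, ← map_mul]
      congr 1
      rcases x with ⟨x, τ⟩
      rw [Prod.mk_mul_mk, Prod.mk_mul_mk, Wr.z_central, mul_one, one_mul]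
    refine ⟨⟨⟨_, h1⟩, h2⟩, ?_⟩
    apply Ph_injective
    rw [hG2]
    exact F.apply_symm_apply _
  have hswap : ∃ τ : Perm (Fin r), sign τ = -1 := by
    rcases hr with rfl | rfl
    · exact ⟨swap 0 1, sign_swap (by decide)⟩
    · exact ⟨swap 0 1, sign_swap (by decide)⟩
  let ρ : centralizer ({α} : Set (alternatingGroup (Fin (4 * n + r)))) →* Wr (Fin (2 * n)) :=
    (MonoidHom.fst _ _).comp G2
  have hker : Nat.card ρ.ker = Nat.card (alternatingGroup (Fin r)) := by
    refine Nat.card_congr (Equiv.ofBijective (fun c => ⟨(G2 c).2, ?_⟩) ⟨?_, ?_⟩)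
    · rw [mem_alternatingGroup]
      have h1 := hev c
      have h2 : (G2 c).1 = 1 := c.2
      rw [h2, map_one, map_one, one_mul] at h1
      exact h1
    · intro c d h
      apply Subtype.ext
      apply hG2i
      have h1 : (G2 c).2 = (G2 d).2 := congrArg Subtype.val h
      have h2 : (G2 c).1 = 1 := c.2
      have h3 : (G2 d).1 = 1 := d.2
      exact Prod.ext (h2.trans h3.symm) h1
    · rintro ⟨τ, hτ⟩
      obtain ⟨c, hc⟩ := hex (1, τ) (by
        rw [map_one, map_one, one_mul]; exact mem_alternatingGroup.1 hτ)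
      refine ⟨⟨c, ?_⟩, ?_⟩
      · change (G2 c).1 = 1
        rw [hc]
      · apply Subtype.ext
        change (G2 c).2 = τ
        rw [hc]
  refine ⟨ρ, ?_, ?_, ?_, ?_⟩
  · intro x
    obtain ⟨τ, hτ⟩ : ∃ τ : Perm (Fin r), sign (Wr.act x) * sign τ = 1 := by
      rcases Int.units_eq_one_or (sign (Wr.act x)) with h | h
      · exact ⟨1, by rw [h, map_one, one_mul]⟩
      · obtain ⟨τ, hτ⟩ := hswap
        exact ⟨τ, by rw [h, hτ]; rfl⟩
    obtain ⟨c, hc⟩ := hex (x, τ) hτ
    exact ⟨c, congrArg Prod.fst hc⟩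
  · rw [hker]
    rcases hr with rfl | rfl
    · left
      rw [nat_card_alternatingGroup, Nat.card_fin]; rfl
    · right
      rw [nat_card_alternatingGroup, Nat.card_fin]; rfl
  · rintro rfl
    rw [hker, nat_card_alternatingGroup, Nat.card_fin]; rfl
  · intro h
    have h1 : G2 ⟨α, h⟩ = (Wr.z _, 1) := by
      apply Ph_injective
      rw [hG2]
      exact hFα
    change (G2 ⟨α, h⟩).1 = _
    rw [h1]

end Cfsg.Agent.H306.Kon
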