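import Cfsg.Agent.H244.Kondo.Final
import Cfsg.Agent.H306.Kon.Alt

/-!
# An involution whose centralizer looks like `O(C).(2 wr Sym(2n))` is 2-central (helper306, for S3218)
-/

set_option autoImplicit false

namespace Cfsg.Agent.H306.Kon

open Subgroup Cfsg.Agent.H244.Kondo

variable {G : Type*} [Group G] [Finite G] {n : ℕ}

/-- A `p`-subgroup whose normalizer lies in `C`, Sylow in `C`, is Sylow. -/
theorem exists_sylow_of_normalizer_le {p : ℕ} [Fact p.Prime] {C : Subgroup G} (T : Sylow p C)
    (h : normalizer (((T : Subgroup C).map C.subtype : Subgroup G) : Set G) ≤ C) :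
    ∃ S : Sylow p G, (S : Subgroup G) = (T : Subgroup C).map C.subtype := by
  set T' : Subgroup G := (T : Subgroup C).map C.subtype with hT'
  have hp : IsPGroup p T' := T.2.map _
  obtain ⟨S, hS⟩ := hp.exists_le_sylow
  refine ⟨S, ?_⟩
  by_contra hne
  have hlt : T' < S := lt_of_le_of_ne hS (Ne.symm hne)
  -- inside `S`
  have : Group.IsNilpotent (S : Subgroup G) := S.2.isNilpotent
  have hlt' : T'.subgroupOf (S : Subgroup G) < ⊤ := by
    rw [lt_top_iff_ne_top]
    intro ht
    rw [subgroupOf_eq_top] at ht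
    exact hlt.not_ge ht
  have hN := normalizerCondition_of_isNilpotent (T'.subgroupOf (S : Subgroup G)) hlt'
  obtain ⟨x, hx1, hx2⟩ := SetLike.exists_of_lt hN
  have hxN : (x : G) ∈ normalizer (T' : Set G) := by
    rw [mem_normalizer_iff]
    intro y
    rw [mem_normalizer_iff] at hx1
    constructor
    · intro hy
      have := (hx1 ⟨y, hS hy⟩).1 (by rw [mem_subgroupOf]; exact hy)
      rw [mem_subgroupOf] at this
      exact this
    · intro hy
      have hyS : y ∈ (S : Subgroup G) := by
        have h1 := S.1.mul_mem (S.1.mul_mem (S.1.inv_mem x.2) (hS hy)) x.2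
        have h2 : (x : G)⁻¹ * ((x : G) * y * (x : G)⁻¹) * x = y := by group
        rwa [h2] at h1
      have := (hx1 ⟨y, hyS⟩).2 (by rw [mem_subgroupOf]; exact hy)
      rw [mem_subgroupOf] at this
      exact this
  have hxC := h hxN
  -- `⟨T, x⟩` is a `p`-subgroup of `C`
  have hle : T' ⊔ zpowers (x : G) ≤ S := sup_le hS (by rw [zpowers_le]; exact x.2)
  have hpg : IsPGroup p ↥(T' ⊔ zpowers (x : G)) := S.2.to_le hle
  have hleC : T' ⊔ zpowers (x : G) ≤ C := sup_le (map_subtype_le _) (by rw [zpowers_le]; exact hxC)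
  have h3 : IsPGroup p ((T' ⊔ zpowers (x : G)).subgroupOf C) :=
    hpg.of_equiv (subgroupOfEquivOfLe hleC).symm
  have h4 : (T : Subgroup C) ≤ (T' ⊔ zpowers (x : G)).subgroupOf C := by
    intro t ht
    rw [mem_subgroupOf]
    exact mem_sup_left ⟨t, ht, rfl⟩
  have h5 := T.3 h3 h4
  have h6 : (⟨x, hxC⟩ : C) ∈ (T : Subgroup C) := by
    rw [← h5, mem_subgroupOf]
    exact mem_sup_right (mem_zpowers _)
  apply hx2
  rw [mem_subgroupOf]
  exact ⟨⟨x, hxC⟩, h6, rfl⟩

theorem two_central_of_hom (hn : 1 ≤ n) {t : G} (ht2 : orderOf t = 2)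
    (π : centralizer ({t} : Set G) →* Wr (La n)) (hπ : Function.Surjective π) (hker : Odd (Nat.card π.ker))
    (ht : ∀ h, π ⟨t, h⟩ = Wr.z (La n)) :
    ∃ S : Sylow 2 G, t ∈ (S : Subgroup G) ∧ ∀ x ∈ (S : Subgroup G), x * t = t * x := by
  have : Fact (Nat.Prime 2) := ⟨Nat.prime_two⟩
  obtain ⟨P0, j0, h1, h2, h3⟩ := exists_lift hπ hker (jW_injective (n := n)) isPGroup_pow_D (MW_index hn)
    (fun x hx y hy => range_conj_MW hx hy)
  have htC : t ∈ centralizer ({t} : Set G) := mem_centralizer_singleton_iff.2 rfl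
  have htP : (⟨t, htC⟩ : centralizer ({t} : Set G)) ∈ (P0 : Subgroup (centralizer ({t} : Set G))) := by
    have h6 : IsPGroup 2 (zpowers (⟨t, htC⟩ : centralizer ({t} : Set G))) :=
      IsPGroup.of_card (n := 1) (by rw [Nat.card_zpowers, ← orderOf_coe]; exact ht2)
    have h8 : (zpowers (⟨t, htC⟩ : centralizer ({t} : Set G))).Normal := by
      constructor
      rintro _ ⟨m, rfl⟩ g
      refine ⟨m, ?_⟩
      have h9 : Commute g (⟨t, htC⟩ : centralizer ({t} : Set G)) :=
        Subtype.ext (mem_centralizer_singleton_iff.1 g.2)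
      change _ = g * (⟨t, htC⟩ : centralizer ({t} : Set G)) ^ m * g⁻¹
      rw [(h9.zpow_right m).eq, mul_inv_cancel_right]
    exact (h6.le_sylow_of_normal P0) (mem_zpowers _)
  have huniq : ∀ x ∈ (P0 : Subgroup (centralizer ({t} : Set G))), ∀ f, π x = jW f → x = j0 f := by
    intro x hx f hf
    have h4 := eq_one_of_odd hker P0.2 ((P0 : Subgroup (centralizer ({t} : Set G))).mul_mem hx
      ((P0 : Subgroup (centralizer ({t} : Set G))).inv_mem (h2 f))) (by rw [map_mul, map_inv, h1, hf, mul_inv_cancel])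
    exact mul_inv_eq_one.1 h4
  have htz : j0 (fun _ => z) = ⟨t, htC⟩ := (huniq _ htP _ (by rw [ht, jW_z])).symm
  have hinj0 : Function.Injective j0 := by
    intro f g h
    apply jW_injective
    rw [← h1, ← h1, h]
  set T' : Subgroup G := (P0 : Subgroup (centralizer ({t} : Set G))).map (centralizer ({t} : Set G)).subtype with hT'
  set j : (Fin n → D) →* G := (centralizer ({t} : Set G)).subtype.comp j0 with hj
  have hinj : Function.Injective j := fun f g h => hinj0 (Subtype.ext h)
  have hrank : ∀ A : Subgroup G, A ≤ T' → (∀ a ∈ A, a * a = 1) → Nat.card A = 4 ^ n → A ≤ j.range := by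
    intro A hAP hA hc
    have hAC : A ≤ centralizer {t} := hAP.trans (map_subtype_le _)
    have hmem : ∀ x : A, inclusion hAC x ∈ (P0 : Subgroup (centralizer ({t} : Set G))) := by
      intro x
      obtain ⟨y, hy, hyx⟩ := hAP x.2
      have : inclusion hAC x = y := Subtype.ext hyx.symm
      rwa [this]
    have hinj' : Function.Injective (π.comp (inclusion hAC)) := by
      rw [injective_iff_map_eq_one]
      intro a ha
      have h4 := eq_one_of_odd hker P0.2 (x := inclusion hAC a) (hmem a) ha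
      have h5 : ((inclusion hAC a : centralizer ({t} : Set G)) : G) = ((1 : centralizer ({t} : Set G)) : G) :=
        congrArg Subtype.val h4
      exact Subtype.ext h5
    have h4 := rank_W (A := (π.comp (inclusion hAC)).range) (n := n) ?_ ?_ ?_
    · intro a ha
      obtain ⟨f, hf⟩ := h4 ⟨⟨a, ha⟩, rfl⟩
      refine ⟨f, ?_⟩
      have h5 := huniq (inclusion hAC ⟨a, ha⟩) (hmem _) f hf.symm
      exact (congrArg Subtype.val h5).symm
    · rintro _ ⟨a, rfl⟩
      exact h3 _ (hmem a)
    · rintro _ ⟨a, rfl⟩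
      rw [← map_mul, show a * a = 1 from Subtype.ext (hA _ a.2), map_one]
    · rw [← hc]
      exact (Nat.card_congr (MonoidHom.ofInjective hinj').toEquiv).symm
  have hrm : ∀ (β : Fin n → Bool) (g : G), (∀ f ∈ Rm β, g * j f * g⁻¹ ∈ T') → ∀ f ∈ Rm β, g * j f * g⁻¹ ∈ j.range := by
    intro β g hg
    have h1 : ((Rm β).map j).map (MulAut.conj g).toMonoidHom ≤ j.range := by
      apply hrank
      · rintro _ ⟨_, ⟨f, hf, rfl⟩, rfl⟩
        exact hg f hf
      · rintro _ ⟨_, ⟨f, hf, rfl⟩, rfl⟩
        rw [← map_mul, ← map_mul, Rm_sq hf, map_one, map_one]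
      · rw [Subgroup.card_map_of_injective (MulAut.conj g).injective, Subgroup.card_map_of_injective hinj, card_Rm]
    intro f hf
    exact h1 ⟨j f, ⟨f, hf, rfl⟩, rfl⟩
  have hjT : ∀ f, j f ∈ T' := fun f => ⟨j0 f, h2 f, rfl⟩
  have hN : normalizer (T' : Set G) ≤ centralizer {t} := by
    intro g hg
    have hgT : ∀ x ∈ T', g * x * g⁻¹ ∈ T' := fun x hx => (mem_normalizer_iff.1 hg x).1 hx
    have hran : ∀ f, g * j f * g⁻¹ ∈ j.range := by
      intro f
      choose e f' he hf' hm using fun i => exists_mul (f i)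
      have h1 : f = e * f' := by funext i; exact hm i
      have h2 := hrm (fun _ => true) g (fun f _ => hgT _ (hjT f)) e (fun i => he i)
      have h3 := hrm (fun _ => false) g (fun f _ => hgT _ (hjT f)) f' (fun i => hf' i)
      have h4 : g * j f * g⁻¹ = g * j e * g⁻¹ * (g * j f' * g⁻¹) := by rw [h1, map_mul]; group
      rw [h4]
      exact j.range.mul_mem h2 h3
    obtain ⟨σ, hσi, hσ⟩ := exists_perm hinj hran
    have h1 := zI_map hσi (g := g) (j := j) (I := Finset.univ) (fun i _ => hσ i)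
    have h2 : Finset.image σ Finset.univ = Finset.univ :=
      Finset.image_univ_of_surjective (Finite.injective_iff_surjective.1 hσi)
    rw [h2, zI_univ] at h1
    have h4 : j (fun _ => z) = t := congrArg Subtype.val htz
    rw [h4, mul_inv_eq_iff_eq_mul] at h1
    rw [mem_centralizer_singleton_iff]
    exact h1
  obtain ⟨S, hS⟩ := exists_sylow_of_normalizer_le P0 hN
  refine ⟨S, ?_, fun x hx => ?_⟩
  · rw [hS]; exact ⟨_, htP, rfl⟩
  · rw [hS] at hx
    exact mem_centralizer_singleton_iff.1 (map_subtype_le _ hx)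

/-- **An involution `z` with `C_G(z) ≅ C_{A_m}(zt)`, `zt` with `4n` moved and `r ∈ {2,3}` fixed points, is 2-central.** -/
theorem two_central {n r : ℕ} (hn : 1 ≤ n) (hr : r = 2 ∨ r = 3)
    (α : ↥(alternatingGroup (Fin (4 * n + r)))) (hα : orderOf α = 2)
    (hα4 : (α : Equiv.Perm (Fin (4 * n + r))).support.card = 4 * n)
    {t : G} (ht2 : orderOf t = 2)
    (e : ↥(centralizer ({t} : Set G)) ≃* ↥(centralizer ({α} : Set ↥(alternatingGroup (Fin (4 * n + r)))))) :
    ∃ S : Sylow 2 G, t ∈ (S : Subgroup G) ∧ ∀ x ∈ (S : Subgroup G), x * t = t * x := by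
  obtain ⟨ρ, hρ1, hρ2, -, -⟩ := exists_rho hn hr α hα hα4
  have e2 : Fin (2 * n) ≃ La n := Fintype.equivOfCardEq (by
    rw [Fintype.card_fin, Fintype.card_prod, Fintype.card_fin, Fintype.card_bool, mul_comm])
  let π : centralizer ({t} : Set G) →* Wr (La n) :=
    (Wr.congr e2).toMonoidHom.comp (ρ.comp e.toMonoidHom)
  have hπ : Function.Surjective π := (Wr.congr e2).surjective.comp (hρ1.comp e.surjective)
  have hker : Odd (Nat.card π.ker) := by
    have h1 : Nat.card π.ker = Nat.card ρ.ker := by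
      refine Nat.card_congr (e.toEquiv.subtypeEquiv fun x => ?_)
      change Wr.congr e2 (ρ (e x)) = 1 ↔ ρ (e x) = 1
      exact map_eq_one_iff _ (Wr.congr e2).injective
    rw [h1]
    rcases hρ2 with h | h
    · rw [h]; decide
    · rw [h]; decide
  refine two_central_of_hom hn ht2 π hπ hker ?_
  intro h
  have : Nonempty (La n) := ⟨(⟨0, by omega⟩, false)⟩
  apply eq_z_of_central
  · intro y
    obtain ⟨c, rfl⟩ := hπ y
    rw [← map_mul, ← map_mul]
    congr 1
    exact (Subtype.ext (mem_centralizer_singleton_iff.1 c.2)).symm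
  · intro h1
    have h3 : IsPGroup 2 (zpowers (⟨t, h⟩ : centralizer ({t} : Set G))) :=
      IsPGroup.of_card (n := 1) (by
        rw [Nat.card_zpowers, ← orderOf_coe]
        exact ht2)
    have h4 := eq_one_of_odd hker h3 (mem_zpowers _) h1
    have h5 : t = 1 := congrArg Subtype.val h4
    rw [h5, orderOf_one] at ht2
    omega

end Cfsg.Agent.H306.Kon
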