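import Cfsg.Agent.H306.Kon.Finish
import Cfsg.Agent.H306.Kon.Central
import Cfsg.Agent.S0107
import Cfsg.Agent.S0483
import Cfsg.Agent.TwoFusion.PResidual
import Cfsg.Agent.SignalizersComponents.BalPSL2

/-!
# `C_G(z) ≅ C_{A_7}(zt)` implies `G ≅ A_7` (helper306, part E of S3218)
-/

set_option autoImplicit false
set_option linter.unusedSectionVars false

namespace Cfsg.Agent.H306.Kon

open Subgroup

section emb

variable {G : Type*} [Group G] {m : ℕ} {zt : alternatingGroup (Fin m)} {z : G}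

/-- the embedding of `C(z)` in `Sym(m)` -/
def emb (e : ↥(Subgroup.centralizer ({z} : Set G)) ≃*
    ↥(Subgroup.centralizer ({zt} : Set ↥(alternatingGroup (Fin m))))) :
    ↥(Subgroup.centralizer ({z} : Set G)) →* Equiv.Perm (Fin m) :=
  (alternatingGroup (Fin m)).subtype.comp ((centralizer ({zt} : Set (alternatingGroup (Fin m)))).subtype.comp
      e.toMonoidHom)

variable (e : ↥(Subgroup.centralizer ({z} : Set G)) ≃*
    ↥(Subgroup.centralizer ({zt} : Set ↥(alternatingGroup (Fin m)))))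

theorem emb_injective : Function.Injective (emb e) :=
  (Subtype.val_injective.comp Subtype.val_injective).comp e.injective

open Cfsg.Agent.H313.Alt

theorem emb_mem (x : ↥(Subgroup.centralizer ({z} : Set G))) : emb e x ∈ CC (zt : Equiv.Perm (Fin m)) := by
  rw [mem_CC]
  refine ⟨?_, Equiv.Perm.mem_alternatingGroup.1 (e x).1.2⟩
  have h1 := mem_centralizer_singleton_iff.1 (e x).2
  exact congrArg Subtype.val h1

theorem exists_emb {c : Equiv.Perm (Fin m)} (hc : c ∈ CC (zt : Equiv.Perm (Fin m))) : ∃ x, emb e x = c := by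
  rw [mem_CC] at hc
  have h1 : (⟨c, Equiv.Perm.mem_alternatingGroup.2 hc.2⟩ : alternatingGroup (Fin m)) ∈
      centralizer ({zt} : Set (alternatingGroup (Fin m))) := by
    rw [mem_centralizer_singleton_iff]
    exact Subtype.ext hc.1
  refine ⟨e.symm ⟨_, h1⟩, ?_⟩
  change (((e (e.symm ⟨_, h1⟩)) : alternatingGroup (Fin m)) : Equiv.Perm (Fin m)) = c
  rw [e.apply_symm_apply]

end emb

/-! ### `2 wr Sym(2)` is dihedral of order 8 -/

instance wrDecEq {P : Type*} [Fintype P] [DecidableEq P] : DecidableEq (Wr P) := fun x y =>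
  decidable_of_iff (x.v = y.v ∧ x.s = y.s) ⟨fun h => Wr.ext h.1 h.2, fun h => by rw [h]; exact ⟨rfl, rfl⟩⟩

/-- the element of order 4 -/
def wx : Wr (Fin 2) := ⟨![1, 0], Equiv.swap 0 1⟩

/-- the reflection -/
def wy : Wr (Fin 2) := ⟨![1, 0], 1⟩

/-- the map -/
def dihFun : DihedralGroup 4 → Wr (Fin 2)
  | .r i => wx ^ i.val
  | .sr i => wy * wx ^ i.val

theorem dihFun_mul : ∀ a b : DihedralGroup 4, dihFun (a * b) = dihFun a * dihFun b := by
  decide +kernel

theorem dihFun_inj : ∀ a : DihedralGroup 4, dihFun a = 1 → a = 1 := by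
  decide +kernel

theorem card_wr_two : Nat.card (Wr (Fin 2)) = 8 := by
  have h1 : Nat.card (Wr (Fin 2)) = Nat.card ((Fin 2 → ZMod 2) × Equiv.Perm (Fin 2)) :=
    Nat.card_congr
      { toFun := fun x => (x.v, x.s)
        invFun := fun x => ⟨x.1, x.2⟩
        left_inv := fun x => rfl
        right_inv := fun x => rfl }
  rw [h1, Nat.card_prod, Nat.card_fun, Nat.card_zmod, Nat.card_perm]
  simp

/-- `2 wr Sym(2)` is dihedral of order 8 -/
theorem exists_dih : Nonempty (Wr (Fin 2) ≃* DihedralGroup 4) := by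
  let f : DihedralGroup 4 →* Wr (Fin 2) := MonoidHom.mk' dihFun dihFun_mul
  have hf : Function.Injective f := (injective_iff_map_eq_one f).2 dihFun_inj
  have hfin : Finite (Wr (Fin 2)) := Nat.finite_of_card_ne_zero (by rw [card_wr_two]; decide)
  have hb : Function.Bijective f := by
    rw [Nat.bijective_iff_injective_and_card]
    exact ⟨hf, by rw [card_wr_two, DihedralGroup.nat_card]⟩
  exact ⟨(MulEquiv.ofBijective f hb).symm⟩

section perm

open Equiv Equiv.Perm Cfsg.Agent.H313.Alt

theorem exists_three_fixed {s : Perm (Fin 7)} (h4 : s.support.card = 4) :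
    ∃ f g h : Fin 7, s f = f ∧ s g = g ∧ s h = h ∧ f ≠ g ∧ f ≠ h ∧ g ≠ h := by
  have h1 : (s.supportᶜ).card = 3 := by
    rw [Finset.card_compl, h4, Fintype.card_fin]
  obtain ⟨f, g, h, h2, h3, h5, h6⟩ := Finset.card_eq_three.1 h1
  have h7 : ∀ x ∈ ({f, g, h} : Finset (Fin 7)), s x = x := by
    intro x hx
    rw [← h6, Finset.mem_compl, mem_support, not_not] at hx
    exact hx
  exact ⟨f, g, h, h7 f (by simp), h7 g (by simp), h7 h (by simp), h2, h3, h5⟩

theorem exists_dis {n : ℕ} {s : Perm (Fin n)} (hs : s * s = 1) (h4 : 4 ≤ s.support.card) :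
    ∀ a, s a ≠ a → ∃ b, Dis s a b := by
  intro a ha
  have h1 : 2 < s.support.card := by omega
  have h2 : ∃ b ∈ s.support, b ∉ ({a, s a} : Finset (Fin n)) := by
    apply Finset.exists_mem_notMem_of_card_lt_card
    exact (Finset.card_le_two).trans_lt h1
  obtain ⟨b, hb, hb2⟩ := h2
  simp only [Finset.mem_insert, Finset.mem_singleton, not_or] at hb2
  exact ⟨b, ⟨ha, mem_support.1 hb, fun h => hb2.1 h.symm, fun h => hb2.2 (by rw [h, ss hs])⟩⟩

theorem perm_data {s : Perm (Fin 7)} (hs : s * s = 1) (h4 : s.support.card = 4) :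
    ∃ c y w : Perm (Fin 7), c ∈ CC s ∧ y ∈ CC s ∧ w ∈ CC s ∧ orderOf c = 3 ∧ y * y = 1 ∧
      y * c * y⁻¹ = c⁻¹ ∧ w * w = 1 ∧ w ≠ 1 ∧ w ≠ s ∧ w * c = c * w ∧ s * c = c * s := by
  obtain ⟨f, g, h, hf, hg, hh, hfg, hfh, hgh⟩ := exists_three_fixed h4
  have hmove : ∃ a, s a ≠ a := by
    have hk0 : 0 < s.support.card := by omega
    obtain ⟨a, ha⟩ := Finset.card_pos.1 hk0
    exact ⟨a, mem_support.1 ha⟩
  obtain ⟨a, ha⟩ := hmove
  obtain ⟨b, hab⟩ := exists_dis hs h4.ge a ha
  have hc3 : IsThreeCycle (swap f g * swap f h) := isThreeCycle_swap_mul_swap_same hfg hfh hgh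
  have hdis : ∀ {x y u v : Fin 7}, s x ≠ x → s y ≠ y → s u = u → s v = v →
      swap x y * swap u v = swap u v * swap x y := by
    intro x y u v hx hy hu hv
    have h1 : ∀ {p q : Fin 7}, s p ≠ p → s q = q → q ≠ p := by
      rintro p q hp hq rfl
      exact hp hq
    exact swap_swap_comm (h1 hx hu) (h1 hy hu) (h1 hx hv) (h1 hy hv)
  have hsa : s (s a) ≠ s a := fun h => ha (s.injective h)
  have hsb : s (s b) ≠ s b := fun h => hab.y1 (s.injective h)
  have htc : ∀ {u v : Fin 7}, s u = u → s v = v → tr s a * swap u v = swap u v * tr s a := by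
    intro u v hu hv
    exact hdis ha hsa hu hv
  have hbc : ∀ {u v : Fin 7}, s u = u → s v = v → bs s a b * swap u v = swap u v * bs s a b := by
    intro u v hu hv
    rw [bs, mul_assoc, hdis hsa hsb hu hv, ← mul_assoc, hdis ha hab.y1 hu hv, mul_assoc]
  have hmm : ∀ {x u v : Perm (Fin 7)}, x * u = u * x → x * v = v * x → x * (u * v) = u * v * x := by
    intro x u v h1 h2
    rw [← mul_assoc, h1, mul_assoc, h2, mul_assoc]
  refine ⟨swap f g * swap f h, tr s a * swap f g, bs s a b, ?_, trsw_mem hs ha hf hg hfg, bs_mem hs hab,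
    hc3.orderOf, ?_, ?_, bs_bs hs hab, ?_, ?_, hmm (hbc hf hg) (hbc hf hh),
    hmm (sw_comm hf hg).symm (sw_comm hf hh).symm⟩
  · exact mem_CC.2 ⟨comm_mul (sw_comm hf hg) (sw_comm hf hh), hc3.sign⟩
  · have h1 := htc hf hg
    rw [mul_assoc, ← mul_assoc (swap f g), ← h1, mul_assoc, swap_mul_self, mul_one, tr_tr]
  · have h1 := htc hf hg
    have h2 := htc hf hh
    rw [mul_inv_rev, swap_inv, tr_inv, mul_inv_rev, swap_inv, swap_inv]
    have h3 : tr s a * swap f g * (swap f g * swap f h) = tr s a * swap f h := by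
      rw [mul_assoc, ← mul_assoc (swap f g), swap_mul_self, one_mul]
    rw [h3, h2, mul_assoc, ← mul_assoc (tr s a), h1, mul_assoc, tr_tr, mul_one]
  · intro h1
    have h2 := bs_left hs hab
    rw [h1, Perm.one_apply] at h2
    exact hab.ne h2
  · intro h1
    have h2 := bs_left hs hab
    rw [h1] at h2
    exact hab.ns' hs h2

end perm

section group

variable {G : Type*} [Group G] [Finite G] {z : G}

/-- the Sylow 2-subgroup -/
theorem sylow_dih (π : ↥(centralizer ({z} : Set G)) →* Wr (Fin 2)) (hπ : Function.Surjective π)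
    (hker : Odd (Nat.card π.ker)) (S : Sylow 2 G) (hS : ∀ x ∈ (S : Subgroup G), x * z = z * x) :
    Nonempty ((S : Subgroup G) ≃* DihedralGroup 4) := by
  have : Fact (Nat.Prime 2) := ⟨Nat.prime_two⟩
  have hSC : (S : Subgroup G) ≤ centralizer ({z} : Set G) := fun x hx =>
    mem_centralizer_singleton_iff.2 (hS x hx)
  let S' : Sylow 2 (centralizer ({z} : Set G)) := S.subtype hSC
  have hwr : IsPGroup 2 (Wr (Fin 2)) := IsPGroup.of_card (n := 3) (by rw [card_wr_two]; norm_num)
  have hfin : Finite (Wr (Fin 2)) := Nat.finite_of_card_ne_zero (by rw [card_wr_two]; decide)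
  have htop : ((S'.mapSurjective hπ : Sylow 2 (Wr (Fin 2))) : Subgroup (Wr (Fin 2))) = ⊤ := by
    have h1 : IsPGroup 2 (⊤ : Subgroup (Wr (Fin 2))) := hwr.to_subgroup _
    exact ((S'.mapSurjective hπ).is_maximal' h1 le_top).symm
  have htop' : (S' : Subgroup (centralizer ({z} : Set G))).map π = ⊤ := htop
  let j : (S' : Subgroup (centralizer ({z} : Set G))) →* Wr (Fin 2) := π.comp (Subgroup.subtype _)
  have hj : Function.Bijective j := by
    constructor
    · rw [injective_iff_map_eq_one]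
      rintro ⟨x, hx⟩ h
      exact Subtype.ext (Cfsg.Agent.H244.Kondo.eq_one_of_odd hker S'.isPGroup' hx h)
    · intro y
      have h1 : y ∈ (S' : Subgroup (centralizer ({z} : Set G))).map π := by rw [htop']; exact mem_top _
      obtain ⟨x, hx, rfl⟩ := h1
      exact ⟨⟨x, hx⟩, rfl⟩
  obtain ⟨f⟩ := exists_dih
  exact ⟨(Subgroup.subgroupOfEquivOfLe hSC).symm.trans ((MulEquiv.ofBijective j hj).trans f)⟩

theorem pResidual_eq_top (hG : ∀ H : Subgroup G, H.index ≠ 2) : Cfsg.pResidual 2 G = ⊤ := by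
  have : Fact (Nat.Prime 2) := ⟨Nat.prime_two⟩
  have hn := Cfsg.Agent.TwoFusion.PResidual.pResidual_normal (G := G) 2
  have hq := Cfsg.Agent.TwoFusion.PResidual.isPGroup_quotient_pResidual (G := G) 2
  by_contra hne
  obtain ⟨k, hk⟩ := IsPGroup.iff_card.1 hq
  rcases Nat.eq_zero_or_pos k with h0 | hpos
  · rw [h0, pow_zero, ← Subgroup.index_eq_card, Subgroup.index_eq_one] at hk
    exact hne hk
  · obtain ⟨H, hH⟩ := Sylow.exists_subgroup_card_pow_prime (G := G ⧸ Cfsg.pResidual 2 G) (n := k - 1) 2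
      (by rw [hk]; exact pow_dvd_pow _ (by omega))
    apply hG (H.comap (QuotientGroup.mk' _))
    rw [Subgroup.index_comap_of_surjective _ (QuotientGroup.mk'_surjective _)]
    have h1 := H.card_mul_index
    rw [hH, hk] at h1
    have h2 : 2 ^ k = 2 ^ (k - 1) * 2 := by rw [← pow_succ]; congr 1; omega
    rw [h2] at h1
    exact Nat.eq_of_mul_eq_mul_left (by positivity) h1

open Cfsg.Agent.H313.Alt in
/-- no normal subgroups of odd order -/
theorem odd_normal_eq_bot (hz : orderOf z = 2) {zt : alternatingGroup (Fin 7)} (hzt : orderOf zt = 2)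
    (e : ↥(Subgroup.centralizer ({z} : Set G)) ≃*
      ↥(Subgroup.centralizer ({zt} : Set ↥(alternatingGroup (Fin 7)))))
    (hcl : ∀ x : G, orderOf x = 2 → IsConj z x) (N : Subgroup G) [hN : N.Normal] (hNodd : Odd (Nat.card N)) :
    N = ⊥ := by
  classical
  set s : Equiv.Perm (Fin 7) := (zt : Equiv.Perm (Fin 7)) with hs_def
  have hso : orderOf s = 2 := by rw [hs_def, Subgroup.orderOf_coe]; exact hzt
  have hs : s * s = 1 := by rw [← pow_two, ← hso, pow_orderOf_eq_one]
  have hs1 : s ≠ 1 := by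
    intro h
    rw [h, orderOf_one] at hso
    omega
  obtain ⟨k, hk⟩ := four_dvd_support hso (Equiv.Perm.mem_alternatingGroup.1 zt.2)
  have hk0 : 0 < s.support.card := by
    rw [Finset.card_pos]
    exact Finset.nonempty_iff_ne_empty.2 fun h => hs1 (Equiv.Perm.support_eq_empty_iff.1 h)
  have hle : s.support.card ≤ 7 := by
    have := Finset.card_le_univ s.support
    rwa [Fintype.card_fin] at this
  have h4 : s.support.card = 4 := by omega
  have hmove : ∃ a, s a ≠ a := by
    obtain ⟨a, ha⟩ := Finset.card_pos.1 hk0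
    exact ⟨a, Equiv.Perm.mem_support.1 ha⟩
  have hex := exists_dis hs h4.ge
  have hr : Nat.card {x // s x = x} = 3 := by
    have h1 : Nat.card {x // s x = x} = (s.supportᶜ).card := by
      rw [Nat.card_eq_fintype_card, Fintype.card_subtype]
      congr 1
      ext x
      simp
    rw [h1, Finset.card_compl, Fintype.card_fin, h4]
  set K : Subgroup (Equiv.Perm (Fin 7)) := (N.subgroupOf (centralizer ({z} : Set G))).map (emb e) with hKdef
  have hKc : Nat.card K = Nat.card ↥(N ⊓ centralizer ({z} : Set G)) := by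
    have h1 : Nat.card K = Nat.card ↥(N.subgroupOf (centralizer ({z} : Set G))) :=
      (Nat.card_congr ((N.subgroupOf (centralizer ({z} : Set G))).equivMapOfInjective (emb e)
        (emb_injective e)).toEquiv).symm
    rw [h1]
    refine Nat.card_congr
      { toFun := fun x => ⟨x.1.1, x.2, x.1.2⟩
        invFun := fun x => ⟨⟨x.1, x.2.2⟩, x.2.1⟩
        left_inv := fun x => rfl
        right_inv := fun x => rfl }
  have hK : K ≤ CC s := by
    rintro _ ⟨x, -, rfl⟩
    exact emb_mem e x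
  have hKN : ∀ c ∈ CC s, ∀ n ∈ K, c * n * c⁻¹ ∈ K := by
    rintro c hc _ ⟨x, hx, rfl⟩
    obtain ⟨y, rfl⟩ := exists_emb e hc
    refine ⟨y * x * y⁻¹, ?_, by rw [map_mul, map_mul, map_inv]⟩
    exact hN.conj_mem _ hx _
  have hKodd : Odd (Nat.card K) := by
    rw [hKc]
    exact hNodd.of_dvd_nat (card_dvd_of_le inf_le_left)
  have hz2 : z * z = 1 := by rw [← pow_two, ← hz, pow_orderOf_eq_one]
  have hcard : ∀ v : G, orderOf v = 2 → Nat.card ↥(N ⊓ centralizer ({v} : Set G)) = Nat.card K := by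
    intro v hv
    rw [card_conj N (hcl v hv), hKc]
  have hord : ∀ {x : ↥(centralizer ({z} : Set G))}, emb e x * emb e x = 1 → emb e x ≠ 1 →
      orderOf (x : G) = 2 := by
    intro x h1 h2
    rw [Subgroup.orderOf_coe]
    refine orderOf_eq_prime ?_ ?_
    · apply emb_injective e
      rw [map_pow, pow_two, h1, map_one]
    · rintro rfl
      exact h2 (map_one _)
  have hcz : ∀ x : ↥(centralizer ({z} : Set G)), z * x = x * z := fun x =>
    (mem_centralizer_singleton_iff.1 x.2).symm
  have hord2 : ∀ {x y : G}, orderOf x = 2 → orderOf y = 2 → x * y = y * x → x ≠ y → orderOf (x * y) = 2 := by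
    intro x y hx hy hxy hne
    have hx2 : x * x = 1 := by rw [← pow_two, ← hx, pow_orderOf_eq_one]
    have hy2 : y * y = 1 := by rw [← pow_two, ← hy, pow_orderOf_eq_one]
    refine orderOf_eq_prime ?_ ?_
    · rw [pow_two, mul_assoc, ← mul_assoc y, ← hxy, mul_assoc, hy2, mul_one, hx2]
    · intro h
      have := mul_eq_one_iff_eq_inv.1 h
      exact hne (by rw [this]; exact inv_eq_of_mul_eq_one_left hy2)
  have hBW : ∀ {y : G} (hy : orderOf y = 2) (hy2 : y * y = 1) (hzy : z * y = y * z) (hne : z ≠ y),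
      (Nat.card K ^ 2) ^ 3 = Nat.card ↥(N ⊓ centralizer (four z y hz2 hy2 hzy : Set G)) ^ 4 *
        Nat.card N ^ 2 := by
    intro y hy hy2 hzy hne
    refine card_four_cent hNodd hz hy hz2 hy2 hzy hne ?_
    rintro v (rfl | rfl | rfl)
    · exact hcard _ hz
    · exact hcard _ hy
    · exact hcard _ (hord2 hz hy hzy hne)
  have hKle : ∀ {F : Subgroup G}, z ∈ F → N ⊓ centralizer (F : Set G) ≤ N ⊓ centralizer ({z} : Set G) := by
    intro F hF
    refine inf_le_inf_left _ (centralizer_le ?_)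
    rintro _ rfl
    exact hF
  -- an involution centralizing `C_N(z)`
  obtain ⟨w, hw, hwz, hwK⟩ : ∃ w : ↥(centralizer ({z} : Set G)), orderOf (w : G) = 2 ∧ z ≠ (w : G) ∧
      ∀ n ∈ K, emb e w * n = n * emb e w := by
    obtain ⟨a, ha⟩ := hmove
    obtain ⟨b, hab⟩ := hex a ha
    obtain ⟨w1, hw1⟩ := exists_emb e (c := s) (mem_CC.2 ⟨rfl, Equiv.Perm.mem_alternatingGroup.1 zt.2⟩)
    obtain ⟨w2, hw2⟩ := exists_emb e (bs_mem hs hab)
    have hbs1 : bs s a b ≠ 1 := by
      intro h1
      have h2 := bs_left hs hab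
      rw [h1, Equiv.Perm.one_apply] at h2
      exact hab.ne h2
    have hbs2 : bs s a b ≠ s := by
      intro h1
      have h2 := bs_left hs hab
      rw [h1] at h2
      exact hab.ns' hs h2
    by_cases h : z = (w1 : G)
    · refine ⟨w2, hord (by rw [hw2]; exact bs_bs hs hab) (by rw [hw2]; exact hbs1), ?_, ?_⟩
      · intro h3
        have h5 : w1 = w2 := Subtype.ext (h.symm.trans h3)
        apply hbs2
        rw [← hw2, ← h5, hw1]
      · intro n hn
        rw [hw2]
        have h6 := conj_bs (s := s) (c := n) (mem_CC.1 (hK hn)).1 a b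
        rw [fix_moved hs hex hK hKN hKodd hn hab.x1, fix_moved hs hex hK hKN hKodd hn hab.y1,
          mul_inv_eq_iff_eq_mul] at h6
        exact h6.symm
    · refine ⟨w1, hord (by rw [hw1]; exact hs) (by rw [hw1]; exact hs1), h, ?_⟩
      intro n hn
      rw [hw1]
      exact (mem_CC.1 (hK hn)).1.symm
  have hw2 : (w : G) * w = 1 := by rw [← pow_two, ← hw, pow_orderOf_eq_one]
  have hb1 := hBW hw hw2 (hcz w) hwz
  have hF1 : N ⊓ centralizer (four z (w : G) hz2 hw2 (hcz w) : Set G) = N ⊓ centralizer ({z} : Set G) := by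
    refine le_antisymm (hKle (mem_four.2 (Or.inr (Or.inl rfl)))) ?_
    intro n hn
    refine Subgroup.mem_inf.2 ⟨hn.1, Subgroup.mem_centralizer_iff.2 ?_⟩
    have hnz : z * n = n * z := (mem_centralizer_singleton_iff.1 hn.2).symm
    have hnw : (w : G) * n = n * w := by
      have h1 : emb e ⟨n, hn.2⟩ ∈ K := ⟨⟨n, hn.2⟩, hn.1, rfl⟩
      have h2 := hwK _ h1
      rw [← map_mul, ← map_mul] at h2
      exact congrArg Subtype.val (emb_injective e h2)
    intro x hx
    rcases mem_four.1 hx with rfl | rfl | rfl | rfl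
    · rw [one_mul, mul_one]
    · exact hnz
    · exact hnw
    · rw [mul_assoc, hnw, ← mul_assoc, hnz, mul_assoc]
  rw [hF1, ← hKc] at hb1
  rcases card_odd_normal hs hex hK hKN hKodd hr (Or.inr rfl) with hc | ⟨-, hc⟩
  · rw [hc] at hb1
    have h1 : Nat.card N ^ 2 = 1 := by simpa using hb1.symm
    have h2 : Nat.card N = 1 := (pow_eq_one_iff.1 h1).resolve_right (by norm_num)
    exact Subgroup.eq_bot_of_card_eq _ h2
  · exfalso
    rw [hc] at hb1
    have h1 : Nat.card N ^ 2 = 9 := by omega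
    obtain ⟨y0, hy0C, hy0, n0, hn0K, hn0⟩ := exists_inverting hs hex hK hKN hc hmove
    obtain ⟨y1, rfl⟩ := exists_emb e hy0C
    obtain ⟨x1, hx1, rfl⟩ := hn0K
    have hxy : (y1 : G) * x1 ≠ x1 * y1 := by
      intro h
      apply hn0
      rw [← map_mul, ← map_mul]
      exact congrArg (emb e) (Subtype.ext h)
    have hy1 : orderOf (y1 : G) = 2 := by
      refine hord hy0 ?_
      intro h
      apply hn0
      rw [h, one_mul, mul_one]
    have hy2 : (y1 : G) * y1 = 1 := by rw [← pow_two, ← hy1, pow_orderOf_eq_one]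
    have hzy : z ≠ (y1 : G) := by
      intro h
      apply hxy
      rw [← h]
      exact hcz x1
    have hb2 := hBW hy1 hy2 (hcz y1) hzy
    rw [hc, h1] at hb2
    have h2 : Nat.card ↥(N ⊓ centralizer (four z (y1 : G) hz2 hy2 (hcz y1) : Set G)) ^ 4 = 3 ^ 4 := by omega
    have h3 : Nat.card ↥(N ⊓ centralizer (four z (y1 : G) hz2 hy2 (hcz y1) : Set G)) = 3 :=
      Nat.pow_left_injective (by norm_num : (4 : ℕ) ≠ 0) h2
    have h5 : N ⊓ centralizer (four z (y1 : G) hz2 hy2 (hcz y1) : Set G) = N ⊓ centralizer ({z} : Set G) :=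
      eq_of_le_of_card_ge (hKle (mem_four.2 (Or.inr (Or.inl rfl)))) (by rw [h3, ← hKc, hc])
    have h6 : (x1 : G) ∈ N ⊓ centralizer (four z (y1 : G) hz2 hy2 (hcz y1) : Set G) := by
      rw [h5]
      exact ⟨hx1, x1.2⟩
    exact hxy (Subgroup.mem_centralizer_iff.1 h6.2 y1 (mem_four.2 (Or.inr (Or.inr (Or.inl rfl)))))

end group

/-- the number of moved points of an involution of `A_7` -/
theorem support_seven {zt : alternatingGroup (Fin 7)} (hzt : orderOf zt = 2) :
    (zt : Equiv.Perm (Fin 7)).support.card = 4 := by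
  set s : Equiv.Perm (Fin 7) := (zt : Equiv.Perm (Fin 7)) with hs_def
  have hso : orderOf s = 2 := by rw [hs_def, Subgroup.orderOf_coe]; exact hzt
  have hs1 : s ≠ 1 := by
    intro h
    rw [h, orderOf_one] at hso
    omega
  obtain ⟨k, hk⟩ := four_dvd_support hso (Equiv.Perm.mem_alternatingGroup.1 zt.2)
  have hk0 : 0 < s.support.card := by
    rw [Finset.card_pos]
    exact Finset.nonempty_iff_ne_empty.2 fun h => hs1 (Equiv.Perm.support_eq_empty_iff.1 h)
  have hle : s.support.card ≤ 7 := by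
    have := Finset.card_le_univ s.support
    rwa [Fintype.card_fin] at this
  omega

/-- **Part E of S3218**: `m = 7` -/
theorem seven {G : Type*} [Group G] [Finite G] (hG : ∀ H : Subgroup G, H.index ≠ 2)
    (zt : ↥(alternatingGroup (Fin 7))) (hzt : orderOf zt = 2) (z : G) (hz : orderOf z = 2)
    (e : ↥(Subgroup.centralizer ({z} : Set G)) ≃* ↥(Subgroup.centralizer ({zt} : Set ↥(alternatingGroup (Fin 7))))) :
    Nonempty (G ≃* ↥(alternatingGroup (Fin 7))) := by
  classical
  have : Fact (Nat.Prime 2) := ⟨Nat.prime_two⟩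
  have hzt4 := support_seven hzt
  have hzs : (zt : Equiv.Perm (Fin 7)) * zt = 1 := by
    have h1 : orderOf (zt : Equiv.Perm (Fin 7)) = 2 := by rw [Subgroup.orderOf_coe]; exact hzt
    rw [← pow_two, ← h1, pow_orderOf_eq_one]
  have hz2 : z * z = 1 := by rw [← pow_two, ← hz, pow_orderOf_eq_one]
  -- the Sylow 2-subgroup
  obtain ⟨S, hzS, hSz⟩ := two_central (n := 1) (r := 3) le_rfl (Or.inr rfl) zt hzt hzt4 hz e
  obtain ⟨f⟩ : Nonempty ((S : Subgroup G) ≃* DihedralGroup 4) := by
    obtain ⟨ρ, hρ1, hρ2, -, -⟩ := exists_rho (n := 1) (r := 3) le_rfl (Or.inr rfl) zt hzt hzt4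
    refine sylow_dih (ρ.comp e.toMonoidHom) (hρ1.comp e.surjective) ?_ S hSz
    have h1 : Nat.card (ρ.comp e.toMonoidHom).ker = Nat.card ρ.ker := by
      refine Nat.card_congr (e.toEquiv.subtypeEquiv fun x => ?_)
      rfl
    rw [h1]
    rcases hρ2 with h2 | h2 <;> rw [h2] <;> decide
  -- one class of involutions
  have hres := pResidual_eq_top hG
  have hcl : ∀ x : G, orderOf x = 2 → IsConj z x := by
    intro x hx
    exact isConj_iff.2 (Cfsg.Agent.S0107.result S 2 le_rfl ⟨f⟩ hres z x hz hx)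
  have hbot : ∀ (N : Subgroup G) [N.Normal], Odd (Nat.card N) → N = ⊥ := fun N _ hN =>
    odd_normal_eq_bot hz hzt e hcl N hN
  have hbot2 : ∀ (N : Subgroup G), N.Normal → N ≠ ⊥ → z ∈ N := by
    intro N hN hne
    by_contra hzN
    apply hne
    refine hbot N ?_
    by_contra ho
    rw [Nat.not_odd_iff_even] at ho
    obtain ⟨t, ht⟩ := exists_prime_orderOf_dvd_card' (G := N) 2 (even_iff_two_dvd.1 ho)
    rw [← Subgroup.orderOf_coe] at ht
    obtain ⟨g, hg⟩ := isConj_iff.1 (hcl t ht).symm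
    apply hzN
    rw [← hg]
    exact hN.conj_mem _ t.2 g
  -- the minimal normal subgroup
  set M : Subgroup G := normalClosure {z} with hMdef
  have hMn : M.Normal := normalClosure_normal
  have hzM : z ∈ M := subset_normalClosure rfl
  have hinv : ∀ x : G, orderOf x = 2 → x ∈ M := by
    intro x hx
    obtain ⟨g, rfl⟩ := isConj_iff.1 (hcl x hx)
    exact hMn.conj_mem _ hzM g
  have hSM : (S : Subgroup G) ≤ M := by
    have h1 : ∀ i : ZMod 4, ((f.symm (DihedralGroup.sr i) : (S : Subgroup G)) : G) ∈ M := by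
      intro i
      apply hinv
      rw [Subgroup.orderOf_coe, MulEquiv.orderOf_eq, DihedralGroup.orderOf_sr]
    intro x hx
    rcases h2 : f ⟨x, hx⟩ with i | i
    · have h3 : (⟨x, hx⟩ : (S : Subgroup G)) = f.symm (DihedralGroup.sr 0) * f.symm (DihedralGroup.sr i) := by
        rw [← map_mul, DihedralGroup.sr_mul_sr, sub_zero, ← h2, f.symm_apply_apply]
      have h4 := congrArg Subtype.val h3
      change x = _ at h4
      rw [h4]
      exact M.mul_mem (h1 0) (h1 i)
    · have h3 : (⟨x, hx⟩ : (S : Subgroup G)) = f.symm (DihedralGroup.sr i) := by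
        rw [← h2, f.symm_apply_apply]
      have h4 := congrArg Subtype.val h3
      change x = _ at h4
      rw [h4]
      exact h1 i
  have hperf : Group.IsPerfect M := by
    have hMM : ⁅M, M⁆ ≠ ⊥ := by
      intro h0
      have h1 : ∀ i : ZMod 4, ((f.symm (DihedralGroup.sr i) : (S : Subgroup G)) : G) ∈ M := by
        intro i
        apply hinv
        rw [Subgroup.orderOf_coe, MulEquiv.orderOf_eq, DihedralGroup.orderOf_sr]
      have h2 := Subgroup.commutator_mem_commutator (h1 0) (h1 1)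
      rw [h0, Subgroup.mem_bot, commutatorElement_eq_one_iff_mul_comm, ← Subgroup.coe_mul, ← Subgroup.coe_mul,
        ← map_mul, ← map_mul] at h2
      have h3 := f.symm.injective (Subtype.ext h2)
      revert h3
      decide
    have h1 : z ∈ ⁅M, M⁆ := hbot2 _ inferInstance hMM
    have h2 : M ≤ ⁅M, M⁆ := normalClosure_le_normal (Set.singleton_subset_iff.2 h1)
    refine ⟨?_⟩
    rw [eq_top_iff]
    rintro ⟨x, hx⟩ -
    have h3 := h2 hx
    rw [← Subgroup.map_subtype_commutator] at h3
    obtain ⟨y, hy, hyx⟩ := h3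
    have h4 : y = ⟨x, hx⟩ := Subtype.ext hyx
    rw [← h4]
    exact hy
  have hOM : Cfsg.oddCore M = ⊥ := by
    have h1 := Cfsg.Agent.Lib.Cores.map_subtype_pPrimeCore 2 hMn
    have h2 : Cfsg.pPrimeCore 2 G = ⊥ := hbot _ Cfsg.Agent.H313.Red.oddCore_odd
    rw [h2, inf_bot_eq] at h1
    exact (Subgroup.map_eq_bot_iff_of_injective _ M.subtype_injective).1 h1
  let S' : Sylow 2 M := S.subtype hSM
  have hS' : Nonempty ((S' : Subgroup M) ≃* DihedralGroup 4) :=
    ⟨(Subgroup.subgroupOfEquivOfLe hSM).trans f⟩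
  have eM : (M ⧸ Cfsg.oddCore M) ≃* M :=
    (QuotientGroup.quotientMulEquivOfEq hOM).trans QuotientGroup.quotientBot
  -- elements of `C(z)`
  obtain ⟨c0, y0, w0, hc0, hy0, hw0, hc3, hyy, hyc, hww, hw1, hws, hwc, hsc⟩ := perm_data hzs hzt4
  rcases Cfsg.Agent.S0483.result S' 4 (by norm_num) hS' with ⟨F, hF1, hF2, hF3, hF4, ⟨g⟩⟩ | hg
  · exfalso
    obtain ⟨c, rfl⟩ := exists_emb e hc0
    obtain ⟨y, rfl⟩ := exists_emb e hy0
    obtain ⟨w, rfl⟩ := exists_emb e hw0
    obtain ⟨t, ht⟩ := exists_emb e (Cfsg.Agent.H313.Alt.mem_CC.2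
      ⟨rfl, Equiv.Perm.mem_alternatingGroup.1 zt.2⟩ : (zt : Equiv.Perm (Fin 7)) ∈ _)
    have hord : ∀ {x : ↥(centralizer ({z} : Set G))}, emb e x * emb e x = 1 → emb e x ≠ 1 →
        orderOf (x : G) = 2 := by
      intro x h1 h2
      rw [Subgroup.orderOf_coe]
      refine orderOf_eq_prime ?_ ?_
      · apply emb_injective e
        rw [map_pow, pow_two, h1, map_one]
      · rintro rfl
        exact h2 (map_one _)
    have hc3' : orderOf (c : G) = 3 := by
      rw [Subgroup.orderOf_coe, ← hc3]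
      exact (orderOf_injective _ (emb_injective e) c).symm
    have hy1 : emb e y ≠ 1 := by
      intro h
      rw [h, one_mul, inv_one, mul_one] at hyc
      have h1 : emb e c ^ 2 = 1 := by rw [pow_two]; nth_rewrite 1 [hyc]; exact inv_mul_cancel _
      have h2 := orderOf_dvd_of_pow_eq_one h1
      rw [hc3] at h2
      omega
    have hyM : (y : G) ∈ M := hinv _ (hord hyy hy1)
    have hwM : (w : G) ∈ M := hinv _ (hord hww hw1)
    have hzt1 : (zt : Equiv.Perm (Fin 7)) ≠ 1 := by
      intro h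
      rw [h, Equiv.Perm.support_one] at hzt4
      simp at hzt4
    have htM : (t : G) ∈ M := hinv _ (hord (by rw [ht]; exact hzs) (by rw [ht]; exact hzt1))
    have hcM : (c : G) ∈ M := by
      have h1 : (y : G) * c * (y : G)⁻¹ = (c : G)⁻¹ := by
        have h2 : y * c * y⁻¹ = c⁻¹ := emb_injective e (by
          rw [map_mul, map_mul, map_inv, map_inv]; exact hyc)
        exact congrArg Subtype.val h2
      have h2 : (y : G) * (c * (y : G)⁻¹ * (c : G)⁻¹) ∈ M :=
        M.mul_mem hyM (hMn.conj_mem _ (M.inv_mem hyM) _)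
      have h3 : (y : G) * (c * (y : G)⁻¹ * (c : G)⁻¹) = c := by
        have h4 : (y : G) * (c * (y : G)⁻¹ * (c : G)⁻¹) = (y : G) * c * (y : G)⁻¹ * (c : G)⁻¹ := by group
        have h5 : (c : G) ^ 3 = 1 := by rw [← hc3', pow_orderOf_eq_one]
        rw [h4, h1, ← mul_inv_rev, ← pow_two, inv_eq_iff_mul_eq_one, ← pow_succ]
        exact h5
      rw [h3] at h2
      exact h2
    have h2F : (2 : F) ≠ 0 := by
      intro h
      have h1 : ringChar F = 2 := CharP.ringChar_of_prime_eq_zero Nat.prime_two (by exact_mod_cast h)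
      have h3 := FiniteField.even_card_iff_char_two.1 h1
      exact (Nat.not_even_iff_odd.2 hF3) (Nat.even_iff.2 h3)
    set j := eM.symm.trans g with hj
    have hjo : ∀ x : M, orderOf (j x) = orderOf (x : G) := fun x => by
      rw [MulEquiv.orderOf_eq, Subgroup.orderOf_coe]
    have hjc : ∀ {x x' : M}, (x : G) * x' = x' * x → Commute (j x) (j x') := by
      intro x x' h
      have h1 : x * x' = x' * x := Subtype.ext h
      exact (Commute.map (show Commute x x' from h1) j.toMonoidHom)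
    have hcz : ∀ {x x' : ↥(centralizer ({z} : Set G))}, emb e x * emb e x' = emb e x' * emb e x →
        (x : G) * x' = x' * x := by
      intro x x' h
      rw [← map_mul, ← map_mul] at h
      exact congrArg Subtype.val (emb_injective e h)
    have key := Cfsg.Agent.SignalizersComponents.BalPSL2.unique_involution h2F
      (j ⟨c, hcM⟩) (j ⟨t, htM⟩) (j ⟨w, hwM⟩) ?_ ?_ ?_ ?_ ?_ ?_
    · have h1 := congrArg Subtype.val (j.injective key)
      have h2 : t = w := Subtype.ext h1
      apply hws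
      rw [← h2, ht]
    · intro h
      have h1 := hjo ⟨c, hcM⟩
      rw [h, orderOf_one] at h1
      change 1 = orderOf (c : G) at h1
      omega
    · rw [hjo]
      change Odd (orderOf (c : G))
      rw [hc3']
      decide
    · rw [hjo]
      exact hord (by rw [ht]; exact hzs) (by rw [ht]; exact hzt1)
    · rw [hjo]
      exact hord hww hw1
    · exact hjc (hcz (by rw [ht]; exact hsc.symm))
    · exact hjc (hcz hwc.symm)
  · -- `M ≅ A_7`
    obtain ⟨g⟩ := hg
    let j : M ≃* alternatingGroup (Fin 7) := eM.symm.trans g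
    have hjz : orderOf (j ⟨z, hzM⟩) = 2 := by
      rw [MulEquiv.orderOf_eq, ← Subgroup.orderOf_coe]
      exact hz
    have hA : ∀ {a b : alternatingGroup (Fin 7)}, orderOf a = 2 → orderOf b = 2 → IsConj a b := by
      intro a b ha hb
      exact isConj_alt ha hb (by rw [support_seven ha, support_seven hb])
    -- orders of centralizers
    have h1 : Nat.card ↥(centralizer ({(⟨z, hzM⟩ : M)} : Set M)) = Nat.card ↥(centralizer ({z} : Set G)) := by
      have h2 : Nat.card ↥(centralizer ({(⟨z, hzM⟩ : M)} : Set M)) =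
          Nat.card ↥(centralizer ({j ⟨z, hzM⟩} : Set (alternatingGroup (Fin 7)))) := by
        refine Nat.card_congr (j.toEquiv.subtypeEquiv fun x => ?_)
        rw [mem_centralizer_singleton_iff, mem_centralizer_singleton_iff]
        change _ ↔ j x * j ⟨z, hzM⟩ = j ⟨z, hzM⟩ * j x
        rw [← map_mul, ← map_mul]
        exact ⟨fun h => by rw [h], fun h => j.injective h⟩
      have h3 := card_conj (⊤ : Subgroup (alternatingGroup (Fin 7))) (hA hjz hzt)
      rw [top_inf_eq, top_inf_eq] at h3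
      rw [h2, ← h3]
      exact (Nat.card_congr e.toEquiv).symm
    have h2 : centralizer ({z} : Set G) ≤ M := by
      have h3 : M ⊓ centralizer ({z} : Set G) = centralizer ({z} : Set G) := by
        refine eq_of_le_of_card_ge inf_le_right ?_
        rw [← h1]
        refine Nat.card_le_card_of_injective
          (fun x : ↥(centralizer ({(⟨z, hzM⟩ : M)} : Set M)) =>
            (⟨x.1.1, x.1.2, ?_⟩ : ↥(M ⊓ centralizer ({z} : Set G)))) ?_
        · have h4 := mem_centralizer_singleton_iff.1 x.2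
          exact mem_centralizer_singleton_iff.2 (congrArg Subtype.val h4)
        · intro x x' h
          exact Subtype.ext (Subtype.ext (congrArg (fun u : ↥(M ⊓ centralizer ({z} : Set G)) => (u : G)) h))
      exact inf_eq_right.1 h3
    have h3 : M = ⊤ := by
      rw [eq_top_iff]
      intro x _
      have h4 : orderOf (x * z * x⁻¹) = 2 := by
        rw [← hz]
        exact (MulAut.conj x).orderOf_eq z
      have h5 := hinv _ h4
      have h6 : orderOf (j ⟨x * z * x⁻¹, h5⟩) = 2 := by
        rw [MulEquiv.orderOf_eq, ← Subgroup.orderOf_coe]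
        exact h4
      obtain ⟨a, ha⟩ := isConj_iff.1 (hA hjz h6)
      obtain ⟨b, rfl⟩ := j.surjective a
      rw [← map_mul, ← map_inv, ← map_mul] at ha
      have h7 : (b : G) * z * (b : G)⁻¹ = x * z * x⁻¹ := congrArg Subtype.val (j.injective ha)
      have h8 : (b : G)⁻¹ * x ∈ centralizer ({z} : Set G) := by
        rw [mem_centralizer_singleton_iff]
        have h9 : (b : G)⁻¹ * (x * z * x⁻¹) * x = (b : G)⁻¹ * ((b : G) * z * (b : G)⁻¹) * x := by rw [h7]
        have h10 : (b : G)⁻¹ * (x * z * x⁻¹) * x = (b : G)⁻¹ * x * z := by group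
        have h11 : (b : G)⁻¹ * ((b : G) * z * (b : G)⁻¹) * x = z * ((b : G)⁻¹ * x) := by group
        rw [← h10, h9, h11]
      have h12 := M.mul_mem b.2 (h2 h8)
      rwa [mul_inv_cancel_left] at h12
    exact ⟨(Subgroup.topEquiv.symm.trans (MulEquiv.subgroupCongr h3.symm)).trans j⟩

end Cfsg.Agent.H306.Kon
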