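import Mathlib

/-!
# The wreath product `2 wr Sym(P)` (helper306)

`Wr P`: pairs `(v, s)`, `v : P → ZMod 2`, `s : Perm P`, acting on `P × ZMod 2` by `(p, b) ↦ (s p, b + v (s p))`.
-/

set_option autoImplicit false

namespace Cfsg.Agent.H306.Kon

open Equiv

@[simp] theorem ia {P : Type*} (s : Perm P) (p : P) : s⁻¹ (s p) = p := s.symm_apply_apply p
@[simp] theorem ai {P : Type*} (s : Perm P) (p : P) : s (s⁻¹ p) = p := s.apply_symm_apply p

/-- `2 wr Sym(P)` -/
@[ext]
structure Wr (P : Type*) where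
  /-- the vector -/
  v : P → ZMod 2
  /-- the permutation -/
  s : Perm P

namespace Wr

variable {P : Type*}

instance : Mul (Wr P) := ⟨fun x y => ⟨fun p => x.v p + y.v (x.s⁻¹ p), x.s * y.s⟩⟩
instance : One (Wr P) := ⟨⟨0, 1⟩⟩
instance : Inv (Wr P) := ⟨fun x => ⟨fun p => x.v (x.s p), x.s⁻¹⟩⟩

@[simp] theorem mul_v (x y : Wr P) (p : P) : (x * y).v p = x.v p + y.v (x.s⁻¹ p) := rfl
@[simp] theorem mul_s (x y : Wr P) : (x * y).s = x.s * y.s := rfl
@[simp] theorem one_v (p : P) : (1 : Wr P).v p = 0 := rfl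
@[simp] theorem one_s : (1 : Wr P).s = 1 := rfl
@[simp] theorem inv_v (x : Wr P) (p : P) : (x⁻¹).v p = x.v (x.s p) := rfl
@[simp] theorem inv_s (x : Wr P) : (x⁻¹).s = x.s⁻¹ := rfl

theorem add_self (a : ZMod 2) : a + a = 0 := CharTwo.add_self_eq_zero a

instance : Group (Wr P) where
  mul_assoc x y z := by
    ext p
    · simp only [mul_v, mul_s, mul_inv_rev, Perm.mul_apply]; ring
    · simp only [mul_s, mul_assoc]
  one_mul x := by
    ext p
    · simp
    · simp
  mul_one x := by
    ext p
    · simp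
    · simp
  inv_mul_cancel x := by
    ext p
    · simp [add_self]
    · simp

/-- the projection -/
def pr : Wr P →* Perm P where
  toFun x := x.s
  map_one' := rfl
  map_mul' _ _ := rfl

@[simp] theorem pr_apply (x : Wr P) : pr x = x.s := rfl

/-- the section -/
def sec : Perm P →* Wr P where
  toFun s := ⟨0, s⟩
  map_one' := rfl
  map_mul' x y := by
    ext p
    · simp
    · simp

@[simp] theorem sec_v (s : Perm P) (p : P) : (sec s).v p = 0 := rfl
@[simp] theorem sec_s (s : Perm P) : (sec s).s = s := rfl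

/-- the vectors -/
def vec (v : P → ZMod 2) : Wr P := ⟨v, 1⟩

@[simp] theorem vec_v (v : P → ZMod 2) : (vec v).v = v := rfl
@[simp] theorem vec_s (v : P → ZMod 2) : (vec v).s = 1 := rfl

theorem vec_mul (v w : P → ZMod 2) : vec v * vec w = vec (v + w) := by
  ext p
  · simp
  · simp

theorem vec_mul_self (v : P → ZMod 2) : vec v * vec v = 1 := by
  ext p
  · simp [add_self]
  · simp

theorem vec_inv (v : P → ZMod 2) : (vec v)⁻¹ = vec v := by
  rw [inv_eq_iff_mul_eq_one]; exact vec_mul_self v

theorem vec_injective : Function.Injective (vec : (P → ZMod 2) → Wr P) := fun _ _ h => congrArg Wr.v h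

theorem vec_zero : vec (0 : P → ZMod 2) = 1 := rfl

theorem conj_vec (x : Wr P) (v : P → ZMod 2) : x * vec v * x⁻¹ = vec (fun p => v (x.s⁻¹ p)) := by
  ext p
  · simp only [mul_v, vec_v, mul_s, vec_s, mul_one, inv_v, ai]
    have := add_self (x.v p)
    calc x.v p + v (x.s⁻¹ p) + x.v p = (x.v p + x.v p) + v (x.s⁻¹ p) := by ring
      _ = _ := by rw [this, zero_add]
  · simp

theorem eq_vec {x : Wr P} (h : x.s = 1) : x = vec x.v := by
  ext p
  · rfl
  · simp [h]

/-- the central involution -/
def z (P : Type*) : Wr P := vec (fun _ => 1)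

theorem z_central (x : Wr P) : x * z P = z P * x := by
  have := conj_vec x (fun _ => 1)
  change x * z P * x⁻¹ = z P at this
  rwa [mul_inv_eq_iff_eq_mul] at this

theorem z_ne [Nonempty P] : z P ≠ 1 := by
  intro h
  obtain ⟨p⟩ := ‹Nonempty P›
  have : (z P).v p = 0 := by rw [h]; rfl
  have h1 : (1 : ZMod 2) = 0 := this
  exact absurd h1 (by decide)

theorem z_mul_self : z P * z P = 1 := vec_mul_self _

/-- the base group -/
def E (P : Type*) : Subgroup (Wr P) := pr.ker

theorem mem_E {x : Wr P} : x ∈ E P ↔ x.s = 1 := MonoidHom.mem_ker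

theorem vec_mem (v : P → ZMod 2) : vec v ∈ E P := rfl

theorem z_mem : z P ∈ E P := rfl

instance : (E P).Normal := inferInstanceAs (pr.ker).Normal

theorem E_comm : ∀ x ∈ E P, ∀ y ∈ E P, x * y = y * x := by
  intro x hx y hy
  rw [eq_vec (mem_E.1 hx), eq_vec (mem_E.1 hy), vec_mul, vec_mul, add_comm]

theorem E_sq : ∀ x ∈ E P, x * x = 1 := by
  intro x hx
  rw [eq_vec (mem_E.1 hx), vec_mul_self]

/-- `Wr P` as a product -/
def equivProd : Wr P ≃ (P → ZMod 2) × Perm P where
  toFun x := (x.v, x.s)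
  invFun x := ⟨x.1, x.2⟩
  left_inv _ := rfl
  right_inv _ := rfl

instance [Finite P] : Finite (Wr P) := Finite.of_equiv _ equivProd.symm

theorem card [Fintype P] [DecidableEq P] : Nat.card (Wr P) = 2 ^ Fintype.card P * (Fintype.card P).factorial := by
  rw [Nat.card_congr equivProd, Nat.card_prod, Nat.card_eq_fintype_card, Nat.card_eq_fintype_card,
    Fintype.card_perm, Fintype.card_fun, ZMod.card]

/-- the vectors as the base group -/
def vecEquiv : (P → ZMod 2) ≃ E P where
  toFun v := ⟨vec v, vec_mem v⟩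
  invFun x := (x : Wr P).v
  left_inv _ := rfl
  right_inv x := Subtype.ext (eq_vec (mem_E.1 x.2)).symm

theorem card_E [Fintype P] [DecidableEq P] : Nat.card (E P) = 2 ^ Fintype.card P := by
  rw [← Nat.card_congr vecEquiv, Nat.card_eq_fintype_card, Fintype.card_fun, ZMod.card]

section act

/-- the action on `P × ZMod 2` -/
def act : Wr P →* Perm (P × ZMod 2) where
  toFun x :=
    { toFun := fun a => (x.s a.1, a.2 + x.v (x.s a.1))
      invFun := fun a => (x.s⁻¹ a.1, a.2 + x.v a.1)
      left_inv := by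
        rintro ⟨p, b⟩
        simp [add_assoc, add_self]
      right_inv := by
        rintro ⟨p, b⟩
        simp [add_assoc, add_self] }
  map_one' := by
    ext a <;> simp
  map_mul' x y := by
    ext a
    · simp
    · simp only [mul_s, Perm.mul_apply, mul_v, coe_fn_mk, mul_inv_rev, ia]
      ring

@[simp] theorem act_apply (x : Wr P) (p : P) (b : ZMod 2) : act x (p, b) = (x.s p, b + x.v (x.s p)) := rfl

theorem act_injective : Function.Injective (act : Wr P →* _) := by
  rw [injective_iff_map_eq_one]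
  intro x hx
  have h1 : ∀ p, x.s p = p ∧ x.v (x.s p) = 0 := by
    intro p
    have := DFunLike.congr_fun hx (p, 0)
    rw [act_apply, Perm.one_apply, zero_add] at this
    exact ⟨congrArg Prod.fst this, congrArg Prod.snd this⟩
  ext p
  · have h2 := (h1 p).2
    rw [(h1 p).1] at h2
    simpa using h2
  · simp [(h1 p).1]

/-- the permutations commuting with `act z` are in the range -/
theorem exists_act {g : Perm (P × ZMod 2)} (hg : g * act (z P) = act (z P) * g) : ∃ x, act x = g := by
  have h1 : ∀ p b, g (p, b + 1) = ((g (p, b)).1, (g (p, b)).2 + 1) := by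
    intro p b
    have := DFunLike.congr_fun hg (p, b)
    exact this
  have h2 : ∀ p b, g (p, b) = ((g (p, 0)).1, (g (p, 0)).2 + b) := by
    intro p b
    have hb : b = 0 ∨ b = 1 := by revert b; decide
    rcases hb with rfl | rfl
    · simp
    · have := h1 p 0
      rwa [zero_add] at this
  have hg' : g⁻¹ * act (z P) = act (z P) * g⁻¹ := by
    calc g⁻¹ * act (z P) = g⁻¹ * (act (z P) * g) * g⁻¹ := by group
      _ = g⁻¹ * (g * act (z P)) * g⁻¹ := by rw [hg]
      _ = _ := by group
  have h1' : ∀ p b, g⁻¹ (p, b + 1) = ((g⁻¹ (p, b)).1, (g⁻¹ (p, b)).2 + 1) := by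
    intro p b
    have := DFunLike.congr_fun hg' (p, b)
    exact this
  have h2' : ∀ p b, g⁻¹ (p, b) = ((g⁻¹ (p, 0)).1, (g⁻¹ (p, 0)).2 + b) := by
    intro p b
    have hb : b = 0 ∨ b = 1 := by revert b; decide
    rcases hb with rfl | rfl
    · simp
    · have := h1' p 0
      rwa [zero_add] at this
  let s : Perm P :=
    { toFun := fun p => (g (p, 0)).1
      invFun := fun p => (g⁻¹ (p, 0)).1
      left_inv := by
        intro p
        have h3 := h2' (g (p, 0)).1 (g (p, 0)).2
        have h4 : ((g (p, 0)).1, (g (p, 0)).2) = g (p, 0) := rfl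
        rw [h4, ia] at h3
        exact (congrArg Prod.fst h3).symm
      right_inv := by
        intro p
        have h3 := h2 (g⁻¹ (p, 0)).1 (g⁻¹ (p, 0)).2
        have h4 : ((g⁻¹ (p, 0)).1, (g⁻¹ (p, 0)).2) = g⁻¹ (p, 0) := rfl
        rw [h4, ai] at h3
        exact (congrArg Prod.fst h3).symm }
  refine ⟨⟨fun q => (g (s⁻¹ q, 0)).2, s⟩, ?_⟩
  apply Equiv.ext
  rintro ⟨p, b⟩
  rw [act_apply, h2 p b, add_comm]
  simp only [ia]
  rfl

end act

end Wr

end Cfsg.Agent.H306.Kon
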